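import Cfsg.Agent.H519.Sd.Tools
import Cfsg.Agent.H813.CoLarge
import Cfsg.Agent.S0399
import Cfsg.Agent.S2136
import Cfsg.Agent.S4625
import Cfsg.Agent.KFacts.Co3.Sheet
import Cfsg.Agent.H49.CoStab

/-!
# S4579: the rows `Co₁`, `Co₂`, `Co₃` (helper519)

`elem_co1`, `elem_co2`, `elem_co3`.
-/

set_option autoImplicit false

namespace Cfsg.Agent.H519.Sd

open Cfsg Subgroup Cfsg.Agent.H643.Sd

universe u

/-- simple groups of Lie type in characteristic two -/
theorem elem_lie2 {G : Type*} [Group G] [Finite G] [IsSimpleGroup G] (h : IsLieTypeChar 2 G) : Elem G := by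
  intro P f x
  have h1 : x ^ 2 ∈ f.ker := Abelianization.commutator_subset_ker f (Cfsg.Agent.S4625.result h P x)
  rw [← map_pow]
  exact h1

theorem finite_of_card {G : Type*} {n : ℕ} (h : Nat.card G = n) (hn : n ≠ 0) : Finite G :=
  Nat.finite_of_card_ne_zero (by rw [h]; exact hn)

/-! ### `Co₁` -/

theorem elem_om8 : Elem Cfsg.Agent.CoOneNWC.OmFacts.Om8 := by
  have : Finite Cfsg.Agent.CoOneNWC.OmFacts.Om8 := finite_of_card Cfsg.Agent.CoOneNWC.OmFacts.card_om8 (by norm_num)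
  have := Cfsg.Agent.CoOneNWC.OmFacts.simple_om8
  have h2 : Subgroup.center Cfsg.Agent.CoOneNWC.OmFacts.Om8 = ⊥ := Cfsg.Agent.CoOneNWC.OmFacts.center_om8
  have e : Cfsg.Agent.CoOneNWC.OmFacts.Om8 ≃* Cfsg.POmega (ZMod 2) (Cfsg.quadFormPlus 4 (ZMod 2)) :=
    (QuotientGroup.quotientBot (G := Cfsg.Agent.CoOneNWC.OmFacts.Om8)).symm.trans
      (QuotientGroup.quotientMulEquivOfEq h2.symm)
  exact elem_lie2 (Or.inr (Or.inr (Or.inr (Or.inr (Or.inl ⟨ZMod 2, inferInstance, inferInstance, inferInstance, 4,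
    le_rfl, ⟨e⟩⟩)))))

theorem elem_Co1 : Elem Spor.Co1 := by
  have hfin : Finite Spor.Co1 := H813.CoLarge.finite_co1
  obtain ⟨L, hL⟩ := H813.CoLarge.exists_L
  have hn := H813.CoLarge.normal
  obtain ⟨e⟩ := H813.OmegaCent.nonempty_equiv H813.CoLarge.large L hL H813.CoLarge.perfect H813.CoLarge.card_Q'
    H813.CoLarge.card_le
  have hodd : Odd (centralizer ({StdG24.ExInst.z} : Set Spor.Co1)).index := by
    rw [StdG24.ExCent.z_eq]
    exact KFacts.Co1.InCo1.odd_index StdG24.ExCent.wt_oM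
  refine elem_of_odd_index (centralizer ({StdG24.ExInst.z} : Set Spor.Co1)) hodd ?_
  have hE : IsExtraspecial 2 ↥(StdG24.ExInst.Q.subgroupOf (centralizer ({StdG24.ExInst.z} : Set Spor.Co1))) :=
    LargeExtra.Nine.ToCent.isExtraspecial H813.CoLarge.large (by rw [H813.CoLarge.card_Q']; norm_num)
  refine elem_of_extraspecial _ hE (e.toMonoidHom.comp (QuotientGroup.mk' _))
    (e.surjective.comp (QuotientGroup.mk'_surjective _)) ?_ elem_om8
  ext x
  rw [MonoidHom.mem_ker]
  constructor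
  · intro h
    have h1 : (QuotientGroup.mk x : _ ⧸ StdG24.ExInst.Q.subgroupOf (centralizer ({StdG24.ExInst.z} : Set Spor.Co1))) = 1 :=
      (injective_iff_map_eq_one e).1 e.injective _ h
    exact (QuotientGroup.eq_one_iff x).1 h1
  · intro h
    have h1 : (QuotientGroup.mk x : _ ⧸ StdG24.ExInst.Q.subgroupOf (centralizer ({StdG24.ExInst.z} : Set Spor.Co1))) = 1 :=
      (QuotientGroup.eq_one_iff x).2 h
    show e (QuotientGroup.mk x) = 1
    rw [h1, map_one]

/-- **Row `Co₁`.** -/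
theorem elem_co1 {G : Type u} [Group G] [Finite G] (h : Cfsg.Spor.IsoCo1 G) : Elem G := by
  obtain ⟨e⟩ := h
  have : Finite Spor.Co1 := H813.CoLarge.finite_co1
  exact elem_congr e.symm elem_Co1

/-! ### `Sp₆(2)` -/

theorem elem_sp6 : Elem (Matrix.symplecticGroup (Fin 3) (ZMod 2)) := by
  have : Finite (Matrix.symplecticGroup (Fin 3) (ZMod 2)) := inferInstance
  have := Cfsg.Agent.KFacts.Co3.AutM.simple_S
  exact elem_lie2 (Or.inr (Or.inl ⟨ZMod 2, inferInstance, inferInstance, inferInstance, 3,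
    by norm_num, fun h => by omega, ⟨Cfsg.Agent.KFacts.Co3.AutM.ePSp⟩⟩))

/-! ### `Co₂` -/

theorem elem_Co2 : Elem ↥Spor.Co2 := by
  have hf := Cfsg.Agent.Schreier.CoTwoStab.finite
  obtain ⟨t, ht, hE, hcard, ⟨e⟩⟩ := Cfsg.Agent.S2136.result
  have hE' : Finite ↥(centralizer ({t} : Set ↥Spor.Co2)) := inferInstance
  have hidx : Odd (centralizer ({t} : Set ↥Spor.Co2)).index := by
    have h1 := (centralizer ({t} : Set ↥Spor.Co2)).card_mul_index
    have h2 := (pCore 2 ↥(centralizer ({t} : Set ↥Spor.Co2))).card_mul_index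
    have h3 : (pCore 2 ↥(centralizer ({t} : Set ↥Spor.Co2))).index = 1451520 := by
      rw [Subgroup.index_eq_card, Nat.card_congr e.toEquiv]
      exact Cfsg.Agent.SporRec.TwoSp6.Sp.card_S
    rw [h3, hcard] at h2
    rw [← h2, Cfsg.Agent.H49.CoStab.card_co2] at h1
    have h4 : (centralizer ({t} : Set ↥Spor.Co2)).index = 56925 := by omega
    rw [h4]
    decide
  refine elem_of_odd_index _ hidx ?_
  refine elem_of_extraspecial _ hE (e.toMonoidHom.comp (QuotientGroup.mk' _))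
    (e.surjective.comp (QuotientGroup.mk'_surjective _)) ?_ elem_sp6
  ext x
  rw [MonoidHom.mem_ker]
  constructor
  · intro h
    have h1 : (QuotientGroup.mk x : _ ⧸ pCore 2 ↥(centralizer ({t} : Set ↥Spor.Co2))) = 1 :=
      (injective_iff_map_eq_one e).1 e.injective _ h
    exact (QuotientGroup.eq_one_iff x).1 h1
  · intro h
    have h1 : (QuotientGroup.mk x : _ ⧸ pCore 2 ↥(centralizer ({t} : Set ↥Spor.Co2))) = 1 :=
      (QuotientGroup.eq_one_iff x).2 h
    show e (QuotientGroup.mk x) = 1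
    rw [h1, map_one]

/-- **Row `Co₂`.** -/
theorem elem_co2 {G : Type u} [Group G] [Finite G] (h : Cfsg.Spor.IsoCo2 G) : Elem G := by
  obtain ⟨e⟩ := h
  have hf := Cfsg.Agent.Schreier.CoTwoStab.finite
  exact elem_congr e.symm elem_Co2

/-! ### `Co₃` -/

section CoThree

open Cfsg.Agent.SporRec.TwoSp6.Model Cfsg.Agent.SporRec.TwoSp6.Order Cfsg.Agent.SporRec.Co3.Ident
  Cfsg.Agent.SporRec.Co3.Chain Cfsg.Agent.SporRec.Co3.Model Cfsg.Agent.KFacts.Co3.AutM
  Cfsg.Agent.KFacts.Co3.Syl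

theorem elem_M : Elem M := by
  have fM : Finite M := Nat.finite_of_card_ne_zero (by rw [card_M]; norm_num)
  obtain ⟨π, -, E⟩ := exists_pi
  refine elem_of_central perfect_M π E.surj ?_ elem_sp6
  intro x hx
  rw [center_eq]
  rcases E.ker x hx with h | h
  · rw [h]; exact one_mem _
  · rw [h]; exact Subgroup.mem_zpowers z

theorem elem_G3 : Elem ↥G3 := by
  have := finite_G3
  refine elem_of_odd_index (centralizer ({Z} : Set G3)) odd_index ?_
  have fM : Finite M := Nat.finite_of_card_ne_zero (by rw [card_M]; norm_num)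
  have e : M ≃* ↥(centralizer ({Z} : Set G3)) :=
    (MonoidHom.ofInjective phi0_inj).trans (MulEquiv.subgroupCongr centralizer_Z.symm)
  exact elem_congr e elem_M

end CoThree

/-- **Row `Co₃`.** -/
theorem elem_co3 {G : Type u} [Group G] [Finite G] (h : Cfsg.Spor.IsoCo3 G) : Elem G := by
  obtain ⟨e⟩ := h
  have := Cfsg.Agent.KFacts.Co3.Syl.finite_G3
  exact elem_congr (Cfsg.Agent.SporRec.Co3.Model.equivCo3.trans e.symm) elem_G3

end Cfsg.Agent.H519.Sd
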