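import Mathlib
import Cfsg.Agent.H643.Sd.Def
import Cfsg.Agent.Transfer.Extraspecial

/-!
# S4579: tools for `Elem` (helper519)

* `Elem.of_surjective`, `Elem.congr`, `elem_of_odd_index`;
* `elem_of_extraspecial`: `E` normal extraspecial, `Elem (G ⧸ E)` ⇒ `Elem G`;
* `elem_of_central`: `G` perfect, central extension of `H`, `Elem H` ⇒ `Elem G`.
-/

set_option autoImplicit false

namespace Cfsg.Agent.H519.Sd

open Cfsg Subgroup Cfsg.Agent.H643.Sd Cfsg.Agent.Transfer.Extraspecial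
open scoped commutatorElement

theorem fact_two : Fact (Nat.Prime 2) := ⟨Nat.prime_two⟩

theorem lin2_of_surjective {P Q : Type*} [Group P] [Group Q] (π : P →* Q) (hπ : Function.Surjective π)
    (h : Lin2 P) : Lin2 Q := by
  intro f x
  obtain ⟨y, rfl⟩ := hπ x
  exact h (f.comp π) y

theorem elem_of_sylow {G : Type*} [Group G] [Finite G] (P : Sylow 2 G) (h : Lin2 (P : Subgroup G)) : Elem G := by
  have := fact_two
  intro Q
  exact lin2_of_surjective (P.equiv Q).toMonoidHom (P.equiv Q).surjective h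

theorem elem_of_surjective {G H : Type*} [Group G] [Finite G] [Group H] (π : G →* H) (hπ : Function.Surjective π)
    (h : Elem G) : Elem H := by
  have := fact_two
  have : Finite H := Finite.of_surjective π hπ
  obtain ⟨P⟩ : Nonempty (Sylow 2 G) := inferInstance
  refine elem_of_sylow (P.mapSurjective hπ) ?_
  rw [Sylow.coe_mapSurjective]
  exact lin2_of_surjective (π.subgroupMap (P : Subgroup G)) (π.subgroupMap_surjective _) (h P)

theorem elem_congr {G H : Type*} [Group G] [Finite G] [Group H] (e : G ≃* H) (h : Elem G) : Elem H :=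
  elem_of_surjective e.toMonoidHom e.surjective h

theorem elem_of_odd_index {G : Type*} [Group G] [Finite G] (H : Subgroup G) (hH : Odd H.index)
    (h : Elem ↥H) : Elem G := by
  have := fact_two
  obtain ⟨Q⟩ : Nonempty (Sylow 2 ↥H) := inferInstance
  have hinj := Subgroup.subtype_injective H
  have h1 : Nat.card ↥((Q : Subgroup ↥H).map H.subtype) = 2 ^ (Nat.card G).factorization 2 := by
    rw [Subgroup.card_map_of_injective hinj, Q.card_eq_multiplicity]
    congr 1
    rw [← H.card_mul_index, Nat.factorization_mul Nat.card_pos.ne' (Nat.pos_of_ne_zero H.index_ne_zero_of_finite).ne',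
      Finsupp.add_apply, Nat.factorization_eq_zero_of_not_dvd (fun h2 => (Nat.not_even_iff_odd.2 hH) (even_iff_two_dvd.2 h2)),
      add_zero]
  refine elem_of_sylow (Sylow.ofCard _ h1) ?_
  rw [Sylow.coe_ofCard]
  exact lin2_of_surjective (H.subtype.subgroupMap (Q : Subgroup ↥H)) (H.subtype.subgroupMap_surjective _) (h Q)

/-- a linear character of a Sylow subgroup which is trivial on the kernel of `π` -/
theorem sq_eq_one_of_quot {G H : Type*} [Group G] [Finite G] [Group H] (π : G →* H) (hπ : Function.Surjective π)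
    (hH : Elem H) (P : Sylow 2 G) (f : ↥(P : Subgroup G) →* ℂˣ)
    (hf : ∀ x : ↥(P : Subgroup G), π x = 1 → f x = 1) (x : ↥(P : Subgroup G)) : f x ^ 2 = 1 := by
  have := fact_two
  have : Finite H := Finite.of_surjective π hπ
  set ρ := π.subgroupMap (P : Subgroup G) with hρ
  have hρs : Function.Surjective ρ := π.subgroupMap_surjective _
  have hk : ρ.ker ≤ f.ker := by
    intro y hy
    rw [MonoidHom.mem_ker] at hy ⊢
    exact hf y (congrArg Subtype.val hy)
  have h1 := hH (P.mapSurjective hπ)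
  rw [Sylow.coe_mapSurjective] at h1
  have h2 := h1 (ρ.liftOfSurjective hρs ⟨f, hk⟩) (ρ x)
  have h3 : ρ.liftOfSurjective hρs ⟨f, hk⟩ (ρ x) = f x :=
    MonoidHom.liftOfRightInverse_comp_apply _ _ _ ⟨f, hk⟩ x
  rwa [h3] at h2

/-- **central extensions** of perfect groups -/
theorem elem_of_central {G H : Type*} [Group G] [Finite G] [Group H] (hG : commutator G = ⊤) (π : G →* H)
    (hπ : Function.Surjective π) (hZ : π.ker ≤ center G) (hH : Elem H) : Elem G := by
  have := fact_two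
  intro P f
  refine sq_eq_one_of_quot π hπ hH P f ?_
  intro x hx
  have hc : (x : G) ∈ center G := hZ hx
  have hcomm : ∀ g : G, g⁻¹ * (x : G) * g = x := by
    intro g
    rw [mul_assoc, ← mem_center_iff.1 hc g, inv_mul_cancel_left]
  -- the transfer is trivial
  have h1 : MonoidHom.transfer f (x : G) = 1 := by
    have h2 : commutator G ≤ (MonoidHom.transfer f).ker := Abelianization.commutator_subset_ker _
    rw [hG] at h2
    exact h2 (mem_top _)
  have hkey : ∀ (k : ℕ) (g₀ : G), g₀⁻¹ * (x : G) ^ k * g₀ ∈ (P : Subgroup G) →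
      g₀⁻¹ * (x : G) ^ k * g₀ = (x : G) ^ k := by
    intro k g₀ _
    have hck : (x : G) ^ k ∈ center G := pow_mem hc k
    rw [mul_assoc, ← mem_center_iff.1 hck g₀, inv_mul_cancel_left]
  rw [MonoidHom.transfer_eq_pow f (x : G) hkey] at h1
  have h2 : f x ^ (P : Subgroup G).index = 1 := by
    rw [← h1, ← map_pow]
    rfl
  have h3 : ∃ k : ℕ, f x ^ 2 ^ k = 1 := by
    obtain ⟨k, hk⟩ := P.isPGroup' x
    exact ⟨k, by rw [← map_pow, hk, map_one]⟩
  obtain ⟨k, hk⟩ := h3
  have h4 : ¬ 2 ∣ (P : Subgroup G).index := P.not_dvd_index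
  have h5 : Nat.Coprime (2 ^ k) (P : Subgroup G).index :=
    Nat.Coprime.pow_left k ((Nat.Prime.coprime_iff_not_dvd Nat.prime_two).2 h4)
  have h6 : orderOf (f x) ∣ 1 := by
    rw [← h5]
    exact Nat.dvd_gcd (orderOf_dvd_of_pow_eq_one hk) (orderOf_dvd_of_pow_eq_one h2)
  exact orderOf_eq_one_iff.1 (Nat.dvd_one.1 h6)

/-! ### Extraspecial normal subgroups -/

section Dual

variable {E : Type*} [Group E]

/-- a faithful linear character of the centre -/
theorem exists_omega [Finite E] (h : IsExtraspecial 2 E) :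
    ∃ ω : ↥(commutator E) →* ℂˣ, Function.Injective ω := by
  have := fact_two
  have h2 : Nat.card ↥(commutator E) = 2 := card_commutator h
  have e : ↥(commutator E) ≃* ℤˣ :=
    mulEquivOfPrimeCardEq (p := 2) h2 (by rw [Nat.card_eq_fintype_card, Fintype.card_units_int])
  refine ⟨(Units.map (Int.castRingHom ℂ).toMonoidHom).comp e.toMonoidHom, ?_⟩
  have h3 : Function.Injective (Units.map ((Int.castRingHom ℂ).toMonoidHom : ℤ →* ℂ)) :=
    Units.map_injective Int.cast_injective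
  exact h3.comp e.injective

/-- `v ↦ ω([·, v])` -/
def chi (hc : ∀ a b : E, ⁅a, b⁆ ∈ center E) (ω : ↥(commutator E) →* ℂˣ) : E →* (E →* ℂˣ) where
  toFun v := ω.comp (commHom' hc v)
  map_one' := by
    ext g
    have h1 : commHom' hc 1 g = 1 := by
      apply Subtype.ext
      rw [coe_commHom', commutatorElement_one_right]
      rfl
    show ((ω (commHom' hc 1 g) : ℂˣ) : ℂ) = ((1 : ℂˣ) : ℂ)
    rw [h1, map_one]
  map_mul' v w := by
    ext g
    have h1 : commHom' hc (v * w) g = commHom' hc v g * commHom' hc w g := by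
      apply Subtype.ext
      rw [Subgroup.coe_mul, coe_commHom', coe_commHom', coe_commHom']
      have h2 : ⁅g, v * w⁆ = ⁅g, v⁆ * (v * ⁅g, w⁆ * v⁻¹) := by
        simp only [commutatorElement_def]
        group
      rw [h2, mem_center_iff.1 (hc g w) v, mul_inv_cancel_right]
    show ((ω (commHom' hc (v * w) g) : ℂˣ) : ℂ) = ((ω (commHom' hc v g) * ω (commHom' hc w g) : ℂˣ) : ℂ)
    rw [h1, map_mul]

theorem chi_apply (hc : ∀ a b : E, ⁅a, b⁆ ∈ center E) (ω : ↥(commutator E) →* ℂˣ) (v e : E) :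
    chi hc ω v e = ω ⟨⁅e, v⁆, comm_mem e v⟩ := rfl

theorem ker_chi (hc : ∀ a b : E, ⁅a, b⁆ ∈ center E) (ω : ↥(commutator E) →* ℂˣ) (hω : Function.Injective ω) :
    (chi hc ω).ker = center E := by
  ext v
  rw [MonoidHom.mem_ker, mem_center_iff]
  constructor
  · intro hv e
    have h1 : chi hc ω v e = 1 := by rw [hv]; rfl
    rw [chi_apply] at h1
    have h2 := (injective_iff_map_eq_one ω).1 hω _ h1
    exact commutatorElement_eq_one_iff_mul_comm.1 (congrArg Subtype.val h2)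
  · intro hv
    ext e
    show ((ω ⟨⁅e, v⁆, comm_mem e v⟩ : ℂˣ) : ℂ) = ((1 : ℂˣ) : ℂ)
    have h1 : (⟨⁅e, v⁆, comm_mem e v⟩ : ↥(commutator E)) = 1 :=
      Subtype.ext (commutatorElement_eq_one_iff_mul_comm.2 (hv e))
    rw [h1, map_one]

/-- every linear character of an extraspecial group is `ω([·, v])` -/
theorem exists_chi [Finite E] (h : IsExtraspecial 2 E) (ω : ↥(commutator E) →* ℂˣ)
    (hω : Function.Injective ω) (f : E →* ℂˣ) : ∃ v : E, ∀ e, f e = ω ⟨⁅e, v⁆, comm_mem e v⟩ := by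
  have hc := comm_mem_center h
  set Φ := chi hc ω with hΦ
  have hker : Φ.ker = center E := ker_chi hc ω hω
  have hcard : Nat.card (E →* ℂˣ) = (center E).index := by
    rw [← commutator_eq_center h]
    have e1 : (E →* ℂˣ) ≃ (Abelianization E →* ℂˣ) := Abelianization.lift
    rw [Nat.card_congr e1, CommGroup.card_monoidHom_of_hasEnoughRootsOfUnity]
    rfl
  have hfin : Finite (E →* ℂˣ) := by
    refine Nat.finite_of_card_ne_zero ?_
    rw [hcard]
    exact Subgroup.index_ne_zero_of_finite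
  have htop : Φ.range = ⊤ := by
    apply Subgroup.eq_top_of_card_eq
    rw [← Subgroup.index_ker, hker, hcard]
  obtain ⟨v, hv⟩ := MonoidHom.range_eq_top.1 htop f
  refine ⟨v, fun e => ?_⟩
  rw [← hv]
  rfl

end Dual

/-- **extraspecial normal subgroups** -/
theorem elem_of_extraspecial {G : Type*} [Group G] [Finite G] (E : Subgroup G) [hEn : E.Normal]
    (hE : IsExtraspecial 2 ↥E) {H : Type*} [Group H] (π : G →* H) (hπ : Function.Surjective π)
    (hker : π.ker = E) (hH : Elem H) : Elem G := by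
  have := fact_two
  intro P f
  have hE2 : IsPGroup 2 ↥E := hE.1.1
  have hEP : E ≤ (P : Subgroup G) := by
    have h1 : IsPGroup 2 ↥(E ⊔ (P : Subgroup G)) := hE2.to_sup_of_normal_left P.2
    have h2 : E ⊔ (P : Subgroup G) = P := P.is_maximal' h1 le_sup_right
    exact h2 ▸ le_sup_left
  obtain ⟨ω, hω⟩ := exists_omega hE
  have hc := comm_mem_center hE
  obtain ⟨v, hv⟩ := exists_chi hE ω hω (f.comp (Subgroup.inclusion hEP))
  have hve : ∀ (e : G) (he : e ∈ E), f ⟨e, hEP he⟩ = ω ⟨⁅(⟨e, he⟩ : ↥E), v⁆, comm_mem _ v⟩ := fun e he => hv ⟨e, he⟩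
  -- the centre of `E` is central in `P`
  have hcE : ∀ c : ↥E, c ∈ center ↥E → ∀ g : G, g ∈ (P : Subgroup G) → g * (c : G) * g⁻¹ = c := by
    intro c hcc g hg
    have hgc : g * (c : G) * g⁻¹ ∈ E := hEn.conj_mem _ c.2 g
    have h1 : (⟨g * (c : G) * g⁻¹, hgc⟩ : ↥E) ∈ center ↥E := by
      rw [mem_center_iff]
      intro x
      apply Subtype.ext
      have h2 : g⁻¹ * (x : G) * g ∈ E := by simpa using hEn.conj_mem _ x.2 g⁻¹
      have h3 := congrArg Subtype.val (mem_center_iff.1 hcc ⟨_, h2⟩)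
      show (x : G) * (g * (c : G) * g⁻¹) = g * (c : G) * g⁻¹ * (x : G)
      have h4 : g⁻¹ * (x : G) * g * (c : G) = (c : G) * (g⁻¹ * (x : G) * g) := h3
      calc (x : G) * (g * (c : G) * g⁻¹) = g * (g⁻¹ * (x : G) * g * (c : G)) * g⁻¹ := by group
        _ = g * ((c : G) * (g⁻¹ * (x : G) * g)) * g⁻¹ := by rw [h4]
        _ = _ := by group
    -- the centre has order two
    by_cases hc1 : c = 1
    · rw [hc1]
      show g * 1 * g⁻¹ = 1
      group
    · have h2 : Nat.card ↥(center ↥E) = 2 := card_center hE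
      have h3 : (⟨⟨g * (c : G) * g⁻¹, hgc⟩, h1⟩ : ↥(center ↥E)) ∈ zpowers (⟨c, hcc⟩ : ↥(center ↥E)) :=
        mem_zpowers_of_prime_card h2 (fun h => hc1 (congrArg Subtype.val h))
      have h4 : (c : G) * c = 1 := by
        have := congrArg Subtype.val (pow_eq_one_of_mem_center hE hcc)
        rwa [pow_two] at this
      obtain ⟨k, hk⟩ := mem_zpowers_iff.1 h3
      have h5 : (c : G) ^ k = g * (c : G) * g⁻¹ := by
        have := congrArg (fun x : ↥(center ↥E) => ((x : ↥E) : G)) hk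
        simpa using this
      rcases Int.even_or_odd' k with ⟨m, rfl | rfl⟩
      · exfalso
        rw [zpow_mul, zpow_ofNat, pow_two, h4, one_zpow] at h5
        apply hc1
        apply Subtype.ext
        have h6 : (c : G) = g⁻¹ * (g * (c : G) * g⁻¹) * g := by group
        rw [h6, ← h5]
        show g⁻¹ * 1 * g = 1
        group
      · rw [zpow_add, zpow_mul, zpow_ofNat, pow_two, h4, one_zpow, one_mul, zpow_one] at h5
        exact h5.symm
  -- `[g, v]` is central in `E`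
  have hvg : ∀ g : G, g ∈ (P : Subgroup G) → ∃ hm : g * (v : G) * g⁻¹ * (v : G)⁻¹ ∈ E,
      (⟨_, hm⟩ : ↥E) ∈ center ↥E := by
    intro g hg
    have hm1 : g * (v : G) * g⁻¹ ∈ E := hEn.conj_mem _ v.2 g
    have hm : g * (v : G) * g⁻¹ * (v : G)⁻¹ ∈ E := mul_mem hm1 (inv_mem v.2)
    refine ⟨hm, ?_⟩
    rw [← ker_chi hc ω hω, MonoidHom.mem_ker]
    have hw : (⟨g * (v : G) * g⁻¹ * (v : G)⁻¹, hm⟩ : ↥E) = ⟨g * (v : G) * g⁻¹, hm1⟩ * v⁻¹ := Subtype.ext rfl
    rw [hw, map_mul, map_inv, mul_inv_eq_one]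
    ext x
    show ((ω ⟨⁅x, _⁆, _⟩ : ℂˣ) : ℂ) = ((ω ⟨⁅x, v⁆, _⟩ : ℂˣ) : ℂ)
    congr 2
    apply Subtype.ext
    apply Subtype.ext
    -- `[x, g v g⁻¹] = [x, v]`
    have hx' : g⁻¹ * (x : G) * g ∈ E := by simpa using hEn.conj_mem _ x.2 g⁻¹
    have h1 : f ⟨x, hEP x.2⟩ = f ⟨g⁻¹ * (x : G) * g, hEP hx'⟩ := by
      have h2 : (⟨g⁻¹ * (x : G) * g, hEP hx'⟩ : ↥(P : Subgroup G)) = (⟨g, hg⟩ : ↥(P : Subgroup G))⁻¹ * ⟨x, hEP x.2⟩ * ⟨g, hg⟩ :=
        Subtype.ext rfl
      rw [h2, map_mul, map_mul, map_inv, mul_comm (f _)⁻¹, mul_assoc, inv_mul_cancel, mul_one]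
    rw [hve _ x.2, hve _ hx'] at h1
    have h5 := congrArg Subtype.val (congrArg Subtype.val (hω h1))
    have h6 : (x : G) * v * (x : G)⁻¹ * (v : G)⁻¹ =
        (g⁻¹ * (x : G) * g) * v * (g⁻¹ * (x : G) * g)⁻¹ * (v : G)⁻¹ := h5
    have h8 : g * ((g⁻¹ * (x : G) * g) * v * (g⁻¹ * (x : G) * g)⁻¹ * (v : G)⁻¹) * g⁻¹ =
        (g⁻¹ * (x : G) * g) * v * (g⁻¹ * (x : G) * g)⁻¹ * (v : G)⁻¹ :=
      hcE _ (hc (⟨g⁻¹ * (x : G) * g, hx'⟩ : ↥E) v) g hg
    show (x : G) * (g * v * g⁻¹) * (x : G)⁻¹ * (g * v * g⁻¹)⁻¹ = (x : G) * v * (x : G)⁻¹ * (v : G)⁻¹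
    have h10 : (x : G) * (g * v * g⁻¹) * (x : G)⁻¹ * (g * v * g⁻¹)⁻¹ =
        g * ((g⁻¹ * (x : G) * g) * v * (g⁻¹ * (x : G) * g)⁻¹ * (v : G)⁻¹) * g⁻¹ := by group
    rw [h10, h8, h6]
  -- the linear character `g ↦ ω([g, v])` of `P`
  have hcomm : ∀ c : ↥E, c ∈ center ↥E → c ∈ commutator ↥E := by
    intro c hcc
    rw [commutator_eq_center hE]
    exact hcc
  let la : ↥(P : Subgroup G) →* ℂˣ :=
    { toFun := fun g => ω ⟨⟨_, (hvg g g.2).1⟩, hcomm _ (hvg g g.2).2⟩
      map_one' := by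
        have h1 : (⟨⟨_, (hvg ((1 : ↥(P : Subgroup G)) : G) (1 : ↥(P : Subgroup G)).2).1⟩,
            hcomm _ (hvg _ (1 : ↥(P : Subgroup G)).2).2⟩ : ↥(commutator ↥E)) = 1 := by
          apply Subtype.ext
          apply Subtype.ext
          show (1 : G) * (v : G) * (1 : G)⁻¹ * (v : G)⁻¹ = 1
          group
        rw [h1, map_one]
      map_mul' := by
        intro g h
        rw [← map_mul]
        congr 1
        apply Subtype.ext
        apply Subtype.ext
        show ((g : G) * (h : G)) * (v : G) * ((g : G) * (h : G))⁻¹ * (v : G)⁻¹ =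
          ((g : G) * (v : G) * (g : G)⁻¹ * (v : G)⁻¹) * ((h : G) * (v : G) * (h : G)⁻¹ * (v : G)⁻¹)
        have h1 := hcE _ (hvg h h.2).2 g g.2
        have h2 : (g : G) * ((h : G) * (v : G) * (h : G)⁻¹ * (v : G)⁻¹) * (g : G)⁻¹ =
          (h : G) * (v : G) * (h : G)⁻¹ * (v : G)⁻¹ := h1
        have h3 := congrArg Subtype.val (mem_center_iff.1 (hvg h h.2).2 ⟨_, (hvg g g.2).1⟩)
        have h4 : ((g : G) * (v : G) * (g : G)⁻¹ * (v : G)⁻¹) * ((h : G) * (v : G) * (h : G)⁻¹ * (v : G)⁻¹) =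
          ((h : G) * (v : G) * (h : G)⁻¹ * (v : G)⁻¹) * ((g : G) * (v : G) * (g : G)⁻¹ * (v : G)⁻¹) := h3
        rw [h4]
        nth_rewrite 1 [← h2]
        group }
  have hla : ∀ g, la g ^ 2 = 1 := by
    intro g
    show ω _ ^ 2 = 1
    rw [← map_pow]
    have h1 : (⟨⟨_, (hvg g g.2).1⟩, hcomm _ (hvg g g.2).2⟩ : ↥(commutator ↥E)) ^ 2 = 1 :=
      Subtype.ext (pow_eq_one_of_mem_center hE (hvg g g.2).2)
    rw [h1, map_one]
  intro x
  have h1 := sq_eq_one_of_quot π hπ hH P (f * la⁻¹) (fun y hy => by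
    have hyE : (y : G) ∈ E := by rw [← hker]; exact hy
    show f y * (la y)⁻¹ = 1
    rw [mul_inv_eq_one]
    have h2 : f y = ω ⟨⁅(⟨y, hyE⟩ : ↥E), v⁆, comm_mem _ v⟩ := hve y hyE
    rw [h2]
    rfl) x
  have h2 : (f * la⁻¹) x = f x * (la x)⁻¹ := rfl
  rw [h2, mul_pow, inv_pow, hla, inv_one, mul_one] at h1
  exact h1

end Cfsg.Agent.H519.Sd
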